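import Groth.Agent.CotT.Exact
import Mathlib.RingTheory.Smooth.Locus
import Mathlib.Algebra.Module.FinitePresentation

/-!
Uniform annihilation of `T¹(B/A, -)` and smoothness off `V(t)`.
-/

set_option autoImplicit false
set_option linter.style.haveILetI false
set_option backward.isDefEq.respectTransparency false

universe u

open scoped TensorProduct

noncomputable section

namespace Groth.Agent.CotAnn

section Alg

variable {R : Type u} [CommRing R] {C F Ω : Type u} [AddCommGroup C] [Module R C] [AddCommGroup F] [Module R F]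
  [AddCommGroup Ω] [Module R Ω] {d : C →ₗ[R] F} {π : F →ₗ[R] Ω}
  (hex : Function.Exact d π) (hπ : Function.Surjective π) (t : R)

include hex hπ in
/-- From `t`-power torsion kernel and projectivity of the cokernel away from `t` to a `t`-power retraction. -/
theorem exists_retraction [Module.Finite R C] [Module.Finite R F] [Module.Projective R F] [Module.FinitePresentation R Ω]
    (hker : ∀ x, d x = 0 → ∃ n : ℕ, t ^ n • x = 0)
    (hproj : Module.Projective (Localization.Away t) (LocalizedModule.Away t Ω)) :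
    ∃ (N : ℕ) (r : F →ₗ[R] C), r ∘ₗ d = t ^ N • LinearMap.id := by
  classical
  let S := Submonoid.powers t
  let mF := LocalizedModule.mkLinearMap S F
  let mΩ := LocalizedModule.mkLinearMap S Ω
  let πt := IsLocalizedModule.map S mF mΩ π
  have hπm : ∀ x, πt (mF x) = mΩ (π x) := fun x => IsLocalizedModule.map_apply S mF mΩ π x
  have hπt : Function.Surjective πt := IsLocalizedModule.map_surjective S mF mΩ π hπ
  let πt' := πt.extendScalarsOfIsLocalization S (Localization.Away t)
  obtain ⟨st, hst⟩ := Module.projective_lifting_property (h := hproj) πt' LinearMap.id hπt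
  obtain ⟨g, ⟨c, a, rfl⟩, hg⟩ :=
    Module.FinitePresentation.exists_lift_of_isLocalizedModule S mF (st.restrictScalars R ∘ₗ mΩ)
  have hg' : ∀ y, mΩ (π (g y)) = mΩ (t ^ a • y) := fun y => by
    rw [← hπm, show mF (g y) = (mF ∘ₗ g) y from rfl, hg, LinearMap.smul_apply, Submonoid.smul_def, map_smul,
      map_smul]
    exact congrArg (t ^ a • ·) (LinearMap.congr_fun hst (mΩ y))
  obtain ⟨G, hG⟩ := (Module.Finite.fg_top : (⊤ : Submodule R Ω).FG)
  have hk : ∀ y, ∃ k : ℕ, t ^ k • (π (g y) - t ^ a • y) = 0 := fun y => by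
    obtain ⟨⟨_, k, rfl⟩, hk⟩ := (IsLocalizedModule.eq_iff_exists S mΩ).mp (hg' y)
    exact ⟨k, by rw [smul_sub]; exact sub_eq_zero.mpr hk⟩
  choose k hk using hk
  let K := G.sup k
  let E : Ω →ₗ[R] Ω := t ^ K • (π ∘ₗ g - t ^ a • LinearMap.id)
  have hE : E = 0 := LinearMap.ext_on (hG ▸ rfl : Submodule.span R (G : Set Ω) = ⊤) fun y hy => by
    have hle : k y ≤ K := Finset.le_sup hy
    show t ^ K • (π (g y) - t ^ a • y) = (0 : Ω)
    rw [← Nat.sub_add_cancel hle, pow_add, mul_smul, hk, smul_zero]
  let u : F →ₗ[R] F := t ^ (K + a) • LinearMap.id - (t ^ K • g) ∘ₗ π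
  have hu : ∀ x, π (u x) = 0 := fun x => by
    have h := LinearMap.congr_fun hE (π x)
    change t ^ K • (π (g (π x)) - t ^ a • π x) = 0 at h
    change π (t ^ (K + a) • x - t ^ K • g (π x)) = 0
    rw [map_sub, map_smul, map_smul, pow_add, mul_smul, ← smul_sub, ← neg_sub, smul_neg, h, neg_zero]
  let u' : F →ₗ[R] LinearMap.range d := u.codRestrict _ fun x => (hex (u x)).mp (hu x)
  obtain ⟨r₀, hr₀⟩ := Module.projective_lifting_property d.rangeRestrict u' d.surjective_rangeRestrict
  have hdr : ∀ x, d (r₀ x) = u x := fun x => congrArg Subtype.val (LinearMap.congr_fun hr₀ x)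
  have h1 : ∀ x, d (r₀ (d x) - t ^ (K + a) • x) = 0 := fun x => by
    rw [map_sub, hdr, map_smul]
    change t ^ (K + a) • d x - t ^ K • g (π (d x)) - _ = 0
    rw [(hex (d x)).mpr ⟨x, rfl⟩, map_zero, smul_zero, sub_zero, sub_self]
  obtain ⟨H, hH⟩ := (Module.Finite.fg_top : (⊤ : Submodule R C).FG)
  choose l hl using fun x => hker _ (h1 x)
  let L := H.sup l
  have hL : t ^ L • (r₀ ∘ₗ d - t ^ (K + a) • LinearMap.id) = 0 :=
    LinearMap.ext_on (hH ▸ rfl : Submodule.span R (H : Set C) = ⊤) fun x hx => by
      have hle : l x ≤ L := Finset.le_sup hx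
      show t ^ L • (r₀ (d x) - t ^ (K + a) • x) = (0 : C)
      rw [← Nat.sub_add_cancel hle, pow_add, mul_smul, hl, smul_zero]
  refine ⟨L + (K + a), t ^ L • r₀, ?_⟩
  rw [LinearMap.smul_comp, pow_add, mul_smul]
  rw [smul_sub, sub_eq_zero] at hL
  exact hL

include hex hπ in
/-- A `t`-power retraction makes the cokernel projective away from `t`. -/
theorem projective_away [Module.Projective R F] {N : ℕ} {r : F →ₗ[R] C} (hr : r ∘ₗ d = t ^ N • LinearMap.id) :
    Module.Projective (Localization.Away t) (LocalizedModule.Away t Ω) := by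
  classical
  let S := Submonoid.powers t
  let mF := LocalizedModule.mkLinearMap S F
  let mΩ := LocalizedModule.mkLinearMap S Ω
  let u : F →ₗ[R] F := t ^ N • LinearMap.id - d ∘ₗ r
  have hle : LinearMap.ker π ≤ LinearMap.ker u := fun x hx => by
    obtain ⟨c, rfl⟩ := (hex x).mp hx
    change t ^ N • d c - d (r (d c)) = 0
    rw [show r (d c) = t ^ N • c from LinearMap.congr_fun hr c, map_smul, sub_self]
  let e := LinearMap.quotKerEquivOfSurjective π hπ
  let s : Ω →ₗ[R] F := ((LinearMap.ker π).liftQ u hle).comp e.symm.toLinearMap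
  have hs : ∀ y, π (s y) = t ^ N • y := fun y => by
    obtain ⟨x, rfl⟩ := hπ y
    have he : e.symm (π x) = Submodule.Quotient.mk x := (LinearEquiv.symm_apply_eq _).2 rfl
    change π ((LinearMap.ker π).liftQ u hle (e.symm (π x))) = _
    rw [he, Submodule.liftQ_apply]
    change π (t ^ N • x - d (r x)) = _
    rw [map_sub, map_smul, (hex (d (r x))).mpr ⟨r x, rfl⟩, sub_zero]
  let πt := (IsLocalizedModule.map S mF mΩ π).extendScalarsOfIsLocalization S (Localization.Away t)
  let st := (IsLocalizedModule.map S mΩ mF s).extendScalarsOfIsLocalization S (Localization.Away t)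
  have hu : IsUnit (algebraMap R (Localization.Away t) (t ^ N)) := by
    rw [map_pow]; exact (IsLocalization.Away.algebraMap_isUnit t).pow N
  obtain ⟨w, hw⟩ := hu
  haveI : Module.Projective (Localization.Away t) (LocalizedModule.Away t F) :=
    Module.projective_of_isLocalizedModule S mF
  refine Module.Projective.of_split (↑w⁻¹ • st) πt (LinearMap.ext fun z => ?_)
  have hz : πt (st z) = algebraMap R (Localization.Away t) (t ^ N) • z := by
    have h : (IsLocalizedModule.map S mF mΩ π) ∘ₗ (IsLocalizedModule.map S mΩ mF s) = t ^ N • LinearMap.id := by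
      refine IsLocalizedModule.linearMap_ext S mΩ mΩ (LinearMap.ext fun y => ?_)
      change IsLocalizedModule.map S mF mΩ π (IsLocalizedModule.map S mΩ mF s (mΩ y)) = t ^ N • mΩ y
      rw [IsLocalizedModule.map_apply, IsLocalizedModule.map_apply, hs, map_smul]
    rw [algebraMap_smul]
    exact LinearMap.congr_fun h z
  change πt (((↑w⁻¹ : Localization.Away t) • st) z) = z
  rw [LinearMap.smul_apply, map_smul, hz, ← hw, smul_smul, Units.inv_mul, one_smul]

end Alg

section Main

variable (A B : Type u) [CommRing A] [CommRing B] [Algebra A B] (t : B)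

/-- The cokernel formulation of `t^n T¹ = 0`. -/
theorem T1_killed_iff {ι σ : Type u} (P : Algebra.Presentation A B ι σ) (n : ℕ) (M : Type u) [AddCommGroup M] [Module B M] :
    (∀ x : _root_.CotT.T1 P M, t ^ n • x = 0) ↔
      ∀ φ : P.toExtension.Cotangent →ₗ[B] M, ∃ ψ : P.toExtension.CotangentSpace →ₗ[B] M,
        ψ ∘ₗ P.toExtension.cotangentComplex = t ^ n • φ := by
  constructor
  · intro h φ
    refine (Groth.Agent.CotT.homToT1_eq_zero P _).mp ?_
    rw [map_smul]; exact h _
  · intro h x
    obtain ⟨φ, rfl⟩ := Groth.Agent.CotT.homToT1_surjective P M x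
    rw [← map_smul]
    exact (Groth.Agent.CotT.homToT1_eq_zero P _).mpr (h φ)

theorem smooth_iff_killed [IsNoetherianRing A] [Algebra.FiniteType A B] :
    (∀ q : PrimeSpectrum B, t ∉ q.asIdeal → q ∈ Algebra.smoothLocus A B) ↔
    ∃ n₀ : ℕ, ∀ (M : Type u) [AddCommGroup M] [Module B M] [Module.Finite B M],
      ∀ x : _root_.CotT.T1 (_root_.CotT.canon A B) M, t ^ n₀ • x = 0 := by
  classical
  haveI : Algebra.FinitePresentation A B := Algebra.FinitePresentation.of_finiteType.mp ‹_›
  let Q := Algebra.Presentation.ofFinitePresentation A B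
  let C := (_root_.CotT.canon A B)
  let f := (Algebra.Generators.defaultHom Q.toGenerators C.toGenerators).toExtensionHom
  let g := (Algebra.Generators.defaultHom C.toGenerators Q.toGenerators).toExtensionHom
  let dQ := Q.toExtension.cotangentComplex
  let dC := C.toExtension.cotangentComplex
  let fC := Algebra.Extension.Cotangent.map f
  let gC := Algebra.Extension.Cotangent.map g
  let fS := Algebra.Extension.CotangentSpace.map f
  let gS := Algebra.Extension.CotangentSpace.map g
  let hQ := (g.comp f).sub (Algebra.Extension.Hom.id _)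
  let hC := (f.comp g).sub (Algebra.Extension.Hom.id _)
  have hgf : ∀ x, gC (fC x) = x + hQ (dQ x) := fun x => by
    have h := congr($(Algebra.Extension.Cotangent.map_sub_map (g.comp f) (Algebra.Extension.Hom.id _)) x)
    simp only [LinearMap.sub_apply, Algebra.Extension.Cotangent.map_comp, Algebra.Extension.Cotangent.map_id,
      LinearMap.coe_comp, Function.comp_apply, LinearMap.id_coe, id_eq, LinearMap.coe_restrictScalars] at h
    exact eq_add_of_sub_eq' h
  have hfg : ∀ x, fC (gC x) = x + hC (dC x) := fun x => by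
    have h := congr($(Algebra.Extension.Cotangent.map_sub_map (f.comp g) (Algebra.Extension.Hom.id _)) x)
    simp only [LinearMap.sub_apply, Algebra.Extension.Cotangent.map_comp, Algebra.Extension.Cotangent.map_id,
      LinearMap.coe_comp, Function.comp_apply, LinearMap.id_coe, id_eq, LinearMap.coe_restrictScalars] at h
    exact eq_add_of_sub_eq' h
  haveI : Module.Finite B Q.toExtension.Cotangent := Algebra.Extension.Cotangent.finite Q.fg_ker
  haveI : Module.Finite B Q.toExtension.CotangentSpace := Module.Finite.of_basis Q.cotangentSpaceBasis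
  haveI : Module.Projective B Q.toExtension.CotangentSpace := Module.Projective.of_basis Q.cotangentSpaceBasis
  have hex := Q.toExtension.exact_cotangentComplex_toKaehler
  have hsur := Q.toExtension.toKaehler_surjective
  have hbo : (∀ q : PrimeSpectrum B, t ∉ q.asIdeal → q ∈ Algebra.smoothLocus A B) ↔
      (PrimeSpectrum.basicOpen t : Set (PrimeSpectrum B)) ⊆ Algebra.smoothLocus A B :=
    ⟨fun h q hq => h q hq, fun h q hq => h hq⟩
  rw [hbo, Algebra.smoothLocus_eq_compl_support_inter, Set.subset_inter_iff, Module.basicOpen_subset_freeLocus_iff]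
  have hH : (PrimeSpectrum.basicOpen t : Set (PrimeSpectrum B)) ⊆ (Module.support B (Algebra.H1Cotangent A B))ᶜ ↔
      ∀ x : Q.toExtension.H1Cotangent, ∃ n : ℕ, t ^ n • x = 0 := by
    rw [Set.subset_compl_comm, PrimeSpectrum.basicOpen_eq_zeroLocus_compl, compl_compl,
      ← LocalizedModule.subsingleton_iff_support_subset, LocalizedModule.subsingleton_iff]
    let e := Q.toGenerators.equivH1Cotangent
    constructor
    · intro h x
      obtain ⟨_, ⟨n, rfl⟩, hn⟩ := h (e x)
      exact ⟨n, e.injective (by rw [map_smul, map_zero]; exact hn)⟩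
    · intro h x
      obtain ⟨n, hn⟩ := h (e.symm x)
      exact ⟨t ^ n, ⟨n, rfl⟩, e.symm.injective (by rw [map_smul, map_zero]; exact hn)⟩
  rw [hH]
  constructor
  · rintro ⟨h1, h2⟩
    obtain ⟨N, r, hr⟩ := exists_retraction hex hsur t
      (fun x hx => by
        obtain ⟨n, hn⟩ := h1 ⟨x, hx⟩
        exact ⟨n, congrArg Subtype.val hn⟩) h2
    refine ⟨N, fun M _ _ _ => (T1_killed_iff A B t C N M).mpr fun φ => ?_⟩
    refine ⟨φ ∘ₗ fC ∘ₗ r ∘ₗ gS - t ^ N • (φ ∘ₗ hC), LinearMap.ext fun x => ?_⟩
    have e1 : gS (dC x) = dQ (gC x) := Algebra.Extension.CotangentSpace.map_cotangentComplex g x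
    change φ (fC (r (gS (dC x)))) - t ^ N • φ (hC (dC x)) = t ^ N • φ x
    rw [e1, show r (dQ (gC x)) = t ^ N • gC x from LinearMap.congr_fun hr _, LinearMap.map_smul_of_tower,
      hfg, map_smul, map_add, smul_add, add_sub_cancel_right]
  · rintro ⟨n, hn⟩
    obtain ⟨ψ, hψ⟩ := (T1_killed_iff A B t C n _).mp (hn Q.toExtension.Cotangent) gC
    let r := ψ ∘ₗ fS - t ^ n • hQ
    have hr : r ∘ₗ dQ = t ^ n • LinearMap.id := LinearMap.ext fun x => by
      have e1 : fS (dQ x) = dC (fC x) := Algebra.Extension.CotangentSpace.map_cotangentComplex f x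
      change ψ (fS (dQ x)) - t ^ n • hQ (dQ x) = t ^ n • x
      rw [e1, show ψ (dC (fC x)) = t ^ n • gC (fC x) from LinearMap.congr_fun hψ _, hgf, smul_add,
        add_sub_cancel_right]
    refine ⟨fun x => ⟨n, Subtype.ext ?_⟩, projective_away hex hsur t hr⟩
    have h := LinearMap.congr_fun hr x.1
    change r (dQ x.1) = t ^ n • x.1 at h
    rw [show dQ x.1 = 0 from x.2, map_zero] at h
    exact h.symm

end Main

end Groth.Agent.CotAnn
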